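import Cfsg.Agent.Lib.ConjFam.StrongCtl

/-!
# Control of strong fusion on a family of subgroups

A variant of `family_strong_local_global` in which only the subgroups of a set `𝒜` have to be conjugated to the
family `𝓣`; the conclusion holds on `𝒜`.
-/

set_option autoImplicit false

namespace Cfsg.Agent.Lib.ConjFam.StrongCtlOn

open Cfsg Cfsg.Agent.Lib.PLocal.Alperin Cfsg.Agent.Lib.ConjFam.Basic
  Cfsg.Agent.Lib.ConjFam.WellPlaced Cfsg.Agent.Lib.ConjFam.StrongCtl

variable {G : Type*} [Group G] [Finite G] {p : ℕ} [Fact p.Prime] {S : Sylow p G}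
  {𝓦 : Set (Subgroup G → Subgroup G)}

/-- A chain for one functor collapses to a single element of the normalizer. -/
theorem exists_of_CCS {W : Subgroup G → Subgroup G} {B : Set G} {g : G}
    (h : CCS S {W} B g) :
    ∃ n ∈ Subgroup.normalizer ((W (S : Subgroup G) : Subgroup G) : Set G),
      ∀ a ∈ B, n * a * n⁻¹ = g * a * g⁻¹ := by
  induction h with
  | refl => exact ⟨1, Subgroup.one_mem _, fun a _ => by simp⟩
  | tail _ hstep ih =>
    rename_i u v
    obtain ⟨n, hn, hna⟩ := ih
    obtain ⟨-, -, hs⟩ := hstep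
    rcases hs with ⟨y, ⟨W', hW', hy⟩, rfl⟩ | hsame
    · rw [Set.mem_singleton_iff] at hW'
      subst hW'
      refine ⟨y * n, Subgroup.mul_mem _ hy hn, fun a ha => ?_⟩
      have e : y * n * a * (y * n)⁻¹ = y * (n * a * n⁻¹) * y⁻¹ := by group
      rw [e, hna a ha]
      group
    · exact ⟨n, hn, fun a ha => by rw [hna a ha, hsame a ha]⟩

/-- The local-to-global theorem for strong fusion, on a set of subgroups. -/
theorem family_strong_local_global_on
    (h𝓦 : ∀ W ∈ 𝓦, IsConjugacyFunctor p W)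
    (𝒜 : Set (Subgroup G))
    (𝓣 : Set (Subgroup G))
    (h𝓣 : ∀ T ∈ 𝓣, T ≠ ⊥ ∧ T ≤ (S : Subgroup G) ∧
      ¬ p ∣ ((S : Subgroup G) ⊓ Subgroup.normalizer (T : Set G)).relIndex
        (Subgroup.normalizer (T : Set G)))
    (h𝒜N : ∀ Q : Subgroup G, Q ≤ (S : Subgroup G) →
      (S : Subgroup G) ⊓ Subgroup.normalizer (Q : Set G) ∈ 𝒜)
    (h𝒜W : ∀ W ∈ 𝓦, ∀ T ∈ 𝓣, W ((S : Subgroup G) ⊓ Subgroup.normalizer (T : Set G)) ∈ 𝒜)
    (hconj : ∀ A ∈ 𝒜, A ≤ (S : Subgroup G) → A ≠ ⊥ → ∃ z : G, cj z A ∈ 𝓣 ∧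
      cj z ((S : Subgroup G) ⊓ Subgroup.normalizer (A : Set G)) ≤ (S : Subgroup G))
    (hctl : ∀ T ∈ 𝓣, FamilyControlsStrongFusionIn p 𝓦 (Subgroup.normalizer (T : Set G))) :
    ∀ Q ∈ 𝒜, Q ≤ (S : Subgroup G) → ∀ g : G, cj g Q ≤ (S : Subgroup G) → CCS S 𝓦 (Q : Set G) g := by
  have hSp : IsPGroup p (S : Subgroup G) := S.isPGroup'
  have hcS : ∀ B : Subgroup G, B ≤ (S : Subgroup G) → Nat.card B ≤ Nat.card (S : Subgroup G) :=
    fun B hB => Subgroup.card_le_of_le hB
  let StepC : ℕ → Prop := fun n => ∀ T ∈ 𝓣,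
    n ≤ Nat.card ((S : Subgroup G) ⊓ Subgroup.normalizer (T : Set G) : Subgroup G) →
    ∀ y ∈ Subgroup.normalizer (T : Set G), ∀ B : Set G,
      B ⊆ ((S : Subgroup G) ⊓ Subgroup.normalizer (T : Set G) : Subgroup G) →
      lc y B ⊆ ((S : Subgroup G) ⊓ Subgroup.normalizer (T : Set G) : Subgroup G) → CCS S 𝓦 B y
  let StepD : ℕ → Prop := fun n => ∀ Q ∈ 𝒜, Q ≤ (S : Subgroup G) → n ≤ Nat.card Q →
    ∀ g : G, cj g Q ≤ (S : Subgroup G) → CCS S 𝓦 (Q : Set G) g
  -- the first inductive step
  have stepC : ∀ n, StepC (n + 1) → StepD (n + 1) → StepC n := by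
    intro n hC hD T hT hn y hy B hB hyB
    obtain ⟨hT0, hTS, hTi⟩ := h𝓣 T hT
    have hRS : (S : Subgroup G) ⊓ Subgroup.normalizer (T : Set G) ≤ (S : Subgroup G) := inf_le_left
    have hRN : (S : Subgroup G) ⊓ Subgroup.normalizer (T : Set G) ≤ Subgroup.normalizer (T : Set G) := inf_le_right
    have hRp : IsPGroup p ((S : Subgroup G) ⊓ Subgroup.normalizer (T : Set G) : Subgroup G) := hSp.to_le hRS
    have hTR : T ≤ (S : Subgroup G) ⊓ Subgroup.normalizer (T : Set G) := le_inf hTS Subgroup.le_normalizer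
    -- key step
    have key : ∀ W ∈ 𝓦, ∀ y' ∈ Subgroup.normalizer (T : Set G) ⊓
          Subgroup.normalizer ((W ((S : Subgroup G) ⊓ Subgroup.normalizer (T : Set G)) : Subgroup G) : Set G),
        ∀ B' : Set G, B' ⊆ ((S : Subgroup G) ⊓ Subgroup.normalizer (T : Set G) : Subgroup G) →
        lc y' B' ⊆ ((S : Subgroup G) ⊓ Subgroup.normalizer (T : Set G) : Subgroup G) → CCS S 𝓦 B' y' := by
      intro W hW y' hy' B' hB' hyB'
      have hWc := h𝓦 W hW
      rcases eq_or_lt_of_le hRS with hRe | hRlt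
      · rw [hRe] at hy' hB' hyB'
        exact CC.single ⟨W, hW, hy'.2⟩ hB' hyB'
      · set R : Subgroup G := (S : Subgroup G) ⊓ Subgroup.normalizer (T : Set G) with hR
        have hR0 : R ≠ ⊥ := fun h => hT0 (le_bot_iff.1 (h ▸ hTR))
        have hV0 : W R ≠ ⊥ := (hWc R hRp).2.1 hR0
        have hVR : W R ≤ R := (hWc R hRp).1
        have hVS : W R ≤ (S : Subgroup G) := hVR.trans hRS
        have hRQ : R < (S : Subgroup G) ⊓ Subgroup.normalizer ((W R : Subgroup G) : Set G) :=
          (lt_inf_normalizer (p := p) hSp hRlt).trans_le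
            (inf_le_inf_left _ (inf_normalizer_le_normalizer_functor hWc hRp))
        obtain ⟨z, hz1, hz2⟩ := hconj (W R) (h𝒜W W hW T hT) hVS hV0
        have hcQ : n + 1 ≤ Nat.card ((S : Subgroup G) ⊓ Subgroup.normalizer ((W R : Subgroup G) : Set G) : Subgroup G) := by
          have := card_lt_of_lt hRQ
          omega
        have hDz := hD _ (h𝒜N _ hVS) inf_le_left hcQ z hz2
        have hzQ : cj z ((S : Subgroup G) ⊓ Subgroup.normalizer ((W R : Subgroup G) : Set G)) ≤
            (S : Subgroup G) ⊓ Subgroup.normalizer ((cj z (W R) : Subgroup G) : Set G) := by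
          refine le_inf hz2 ?_
          rw [← cj_normalizer]
          exact cj_mono _ inf_le_right
        have hy'' : z * y' * z⁻¹ ∈ Subgroup.normalizer ((cj z (W R) : Subgroup G) : Set G) := by
          rw [← cj_normalizer]
          exact conj_mem_cj hy'.2
        have hlc : ∀ X : Set G, X ⊆ (R : Set G) →
            lc z X ⊆ ((S : Subgroup G) ⊓ Subgroup.normalizer ((cj z (W R) : Subgroup G) : Set G) : Subgroup G) := by
          intro X hX
          rintro _ ⟨a, ha, rfl⟩
          exact hzQ (conj_mem_cj (hRQ.le (hX ha)))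
        have hC' := hC _ hz1 (by
            have h1 := Subgroup.card_le_of_le hzQ
            rw [card_cj] at h1
            omega) (z * y' * z⁻¹) hy'' (lc z B') (hlc B' hB') (by
            rw [lc_lc]
            have : z * y' * z⁻¹ * z = z * y' := by group
            rw [this, ← lc_lc]
            exact hlc _ hyB')
        have h1 : CCS S 𝓦 B' z := hDz.mono (fun x hx => hRQ.le (hB' hx))
        have h2 : CCS S 𝓦 B' (z * y' * z⁻¹ * z) := h1.trans hC'
        have h3 : CCS S 𝓦 (lc (z * y' * z⁻¹ * z) B') z⁻¹ := by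
          have : z * y' * z⁻¹ * z = z * y' := by group
          rw [this, ← lc_lc]
          have h4 : CCS S 𝓦 (lc y' B') z := hDz.mono (fun x hx => hRQ.le (hyB' hx))
          exact h4.inv (QW_inv S 𝓦)
        have h5 := h2.trans h3
        have e : z⁻¹ * (z * y' * z⁻¹ * z) = y' := by group
        rwa [e] at h5
    obtain ⟨m, c, h0, hs, hc, hl⟩ := family_strong_transport h𝓦 (hctl T hT) hRN hRp hTi B y hy hB hyB
    have hall : ∀ i : Fin (m + 1), CCS S 𝓦 B (c i) := by
      intro i
      induction i using Fin.induction with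
      | zero => rw [h0]; exact CC.refl B
      | succ i ih =>
        obtain ⟨W, hW, hWm⟩ := hs i
        have h1 := key W hW _ hWm (lc (c i.castSucc) B) (hc _) (by
          rw [lc_lc]
          simpa using hc i.succ)
        have h2 := ih.trans h1
        have e : c i.succ * (c i.castSucc)⁻¹ * c i.castSucc = c i.succ := by group
        rwa [e] at h2
    refine (hall (Fin.last m)).congr (fun x hx => hRS (hB hx)) hl ?_
    exact (hc _).trans (fun x hx => hRS hx)
  -- the second step
  have stepD : ∀ n, StepC n → StepD (n + 1) → StepD n := by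
    intro n hC hD Q hQ𝒜 hQ hn g hg
    by_cases hQ0 : Q = ⊥
    · subst hQ0
      refine (CC.refl _).congr (fun x hx => ?_) ?_ ?_
      · rw [SetLike.mem_coe, Subgroup.mem_bot] at hx
        rw [hx]
        exact Subgroup.one_mem _
      · intro a ha
        rw [SetLike.mem_coe, Subgroup.mem_bot] at ha
        subst ha
        simp
      · rw [lc_one]
        intro x hx
        rw [SetLike.mem_coe, Subgroup.mem_bot] at hx
        rw [hx]
        exact Subgroup.one_mem _
    · obtain ⟨z, hz1, hz2⟩ := hconj Q hQ𝒜 hQ hQ0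
      obtain ⟨hU0, hUS, hUi⟩ := h𝓣 _ hz1
      -- sublemma
      have hE : ∀ (Q₁ : Subgroup G), Q₁ ≤ (S : Subgroup G) → n ≤ Nat.card Q₁ → ∀ z₁ : G,
          cj z₁ Q₁ = cj z Q → cj z₁ ((S : Subgroup G) ⊓ Subgroup.normalizer (Q₁ : Set G)) ≤ (S : Subgroup G) →
          CCS S 𝓦 (Q₁ : Set G) z₁ := by
        intro Q₁ hQ₁ hn₁ z₁ he₁ hs₁
        rcases eq_or_lt_of_le hQ₁ with he | hlt
        · -- `Q₁ = S`
          subst he
          have h1 : cj z Q = (S : Subgroup G) := by
            rw [← he₁]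
            exact Subgroup.eq_of_le_of_card_ge (hs₁.trans' (cj_mono _ (le_inf le_rfl Subgroup.le_normalizer)))
              (by rw [card_cj])
          have h2 : cj z₁ (S : Subgroup G) = (S : Subgroup G) := by rw [he₁, h1]
          have h3 : z₁ ∈ Subgroup.normalizer ((cj z Q : Subgroup G) : Set G) := by
            rw [h1]; exact mem_normalizer_iff_cj.2 h2
          refine hC _ hz1 ?_ z₁ h3 _ ?_ ?_
          · rw [h1, inf_eq_left.2 Subgroup.le_normalizer]
            exact hn₁
          · intro x hx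
            rw [h1, inf_eq_left.2 Subgroup.le_normalizer]
            exact hx
          · rw [lc_coe_subgroup, h2, h1, inf_eq_left.2 Subgroup.le_normalizer]
        · have h1 := lt_inf_normalizer (p := p) hSp hlt
          have h2 := card_lt_of_lt h1
          have h3 := hD _ (h𝒜N _ hQ₁) inf_le_left (by omega) z₁ hs₁
          exact h3.mono (fun x hx => h1.le hx)
      have h1 : CCS S 𝓦 (Q : Set G) z := hE Q hQ hn z rfl hz2
      -- the same for `cj g Q`
      have hQ'p : IsPGroup p (cj (z * g⁻¹) ((S : Subgroup G) ⊓ Subgroup.normalizer ((cj g Q : Subgroup G) : Set G))) :=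
        isPGroup_cj (hSp.to_le inf_le_left) _
      have hzcj : cj (z * g⁻¹) (cj g Q) = cj z Q := by
        rw [cj_cj]; congr 1; group
      have hQ'N : cj (z * g⁻¹) ((S : Subgroup G) ⊓ Subgroup.normalizer ((cj g Q : Subgroup G) : Set G)) ≤
          Subgroup.normalizer ((cj z Q : Subgroup G) : Set G) := by
        have h3 := cj_mono (z * g⁻¹) (inf_le_right : (S : Subgroup G) ⊓ Subgroup.normalizer ((cj g Q : Subgroup G) : Set G) ≤ _)
        rwa [cj_normalizer, hzcj] at h3
      obtain ⟨k, hk, hkQ⟩ := exists_conj_le_of_sylowIn _ _ _ inf_le_right (hSp.to_le inf_le_left) hUi hQ'N hQ'p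
      have hkU : cj k (cj z Q) = cj z Q := mem_normalizer_iff_cj.1 hk
      have hae : cj (k * (z * g⁻¹)) (cj g Q) = cj z Q := by
        rw [← cj_cj, hzcj, hkU]
      have h2 : CCS S 𝓦 ((cj g Q : Subgroup G) : Set G) (k * (z * g⁻¹)) := by
        refine hE _ hg (by rw [card_cj]; exact hn) _ hae ?_
        rw [← cj_cj]
        exact hkQ.trans inf_le_left
      set a : G := k * (z * g⁻¹) with ha
      have hy : a * g * z⁻¹ ∈ Subgroup.normalizer ((cj z Q : Subgroup G) : Set G) := by
        have e : a * g * z⁻¹ = k := by rw [ha]; group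
        rw [e]; exact hk
      have hcU : n ≤ Nat.card ((S : Subgroup G) ⊓ Subgroup.normalizer ((cj z Q : Subgroup G) : Set G) : Subgroup G) := by
        have h3 := Subgroup.card_le_of_le (le_inf hUS Subgroup.le_normalizer :
          cj z Q ≤ (S : Subgroup G) ⊓ Subgroup.normalizer ((cj z Q : Subgroup G) : Set G))
        rw [card_cj] at h3
        omega
      have h3 : CCS S 𝓦 ((cj z Q : Subgroup G) : Set G) (a * g * z⁻¹) := by
        refine hC _ hz1 hcU _ hy _ (fun x hx => le_inf hUS Subgroup.le_normalizer hx) ?_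
        rw [lc_coe_subgroup, mem_normalizer_iff_cj.1 hy]
        exact fun x hx => le_inf hUS Subgroup.le_normalizer hx
      have h4 : CCS S 𝓦 (Q : Set G) (a * g * z⁻¹ * z) := by
        refine h1.trans ?_
        rw [lc_coe_subgroup]
        exact h3
      have h5 : CCS S 𝓦 (lc (a * g * z⁻¹ * z) (Q : Set G)) a⁻¹ := by
        have e : a * g * z⁻¹ * z = a * g := by group
        rw [e, ← lc_lc, lc_coe_subgroup g Q]
        exact h2.inv (QW_inv S 𝓦)
      have h6 := h4.trans h5
      have e : a⁻¹ * (a * g * z⁻¹ * z) = g := by group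
      rwa [e] at h6
  have key : ∀ k n : ℕ, n + k = Nat.card (S : Subgroup G) + 1 → StepC n ∧ StepD n := by
    intro k
    induction k with
    | zero =>
      intro n hn
      constructor
      · intro T _ hn1
        have := hcS _ (inf_le_left : (S : Subgroup G) ⊓ Subgroup.normalizer (T : Set G) ≤ S)
        omega
      · intro Q _ hQ hn1
        have := hcS _ hQ
        omega
    | succ k ih =>
      intro n hn
      obtain ⟨h1, h2⟩ := ih (n + 1) (by omega)
      have h3 := stepC n h1 h2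
      exact ⟨h3, stepD n h3 h2⟩
  intro Q hQ𝒜 hQ g hg
  exact (key (Nat.card (S : Subgroup G) + 1) 0 (by omega)).2 Q hQ𝒜 hQ (Nat.zero_le _) g hg

end Cfsg.Agent.Lib.ConjFam.StrongCtlOn
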